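import Mathlib
import Cfsg.Agent.Lib.Char.Virtual
import Cfsg.Agent.Lib.Char.CompleteCor
import Cfsg.Agent.Lib.Blocks.WeakOrth
import Cfsg.Agent.Lib.Char.Induced
import Cfsg.Agent.Lib.Char.Coherence
import Cfsg.Agent.Lib.Char.LinearChars

/-!
# Families of signed irreducible characters, class sums

Tools for the identification of the groups with a strongly embedded subgroup from the values of a family
of signed irreducible characters on involutions.
-/

set_option autoImplicit false

namespace Cfsg.Agent.Lib.Recog13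

open Cfsg Cfsg.Agent.Lib.Char.Virtual Cfsg.Agent.Lib.Char.Induced
open scoped ComplexConjugate

universe u

variable {G : Type u} [Group G]

/-- The constant function is an irreducible character. -/
theorem isIrr_one : IsIrrCharacter G (1 : G → ℂ) := by
  have h := Cfsg.Agent.Lib.Char.LinearChars.isIrr_of_hom (1 : G →* ℂˣ)
  have h2 : (fun g : G => (((1 : G →* ℂˣ) g : ℂˣ) : ℂ)) = (1 : G → ℂ) := by
    funext g
    simp
  rwa [h2] at h

theorem signed_exists_int_one {θ : G → ℂ} (h : IsSignedIrr G θ) : ∃ n : ℤ, n ≠ 0 ∧ θ 1 = n := by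
  rcases h with h | h
  · obtain ⟨n, hn, hn'⟩ := exists_degree_of_isIrr h
    exact ⟨n, by exact_mod_cast hn.ne', by rw [hn']; simp⟩
  · obtain ⟨n, hn, hn'⟩ := exists_degree_of_isIrr h
    refine ⟨-n, by
      have : (n : ℤ) ≠ 0 := by exact_mod_cast hn.ne'
      omega, ?_⟩
    have h2 : θ 1 = - (-θ) 1 := by simp
    rw [h2, hn']
    simp

theorem signed_one_ne_zero {θ : G → ℂ} (h : IsSignedIrr G θ) : θ 1 ≠ 0 := by
  obtain ⟨n, hn, h1⟩ := signed_exists_int_one h
  rw [h1]
  exact_mod_cast hn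

variable [Fintype G]

/-- A signed irreducible family gives distinct irreducible characters. -/
theorem exists_irr_family {J : Type*} (u : J → G → ℂ) (hu : ∀ j, IsSignedIrr G (u j))
    (horth : ∀ i j, i ≠ j → classInner (u i) (u j) = 0) :
    ∃ (ξ : J → IrrCharacter G) (s : J → ℂ), Function.Injective ξ ∧ (∀ j, s j = 1 ∨ s j = -1) ∧
      ∀ j, u j = s j • (ξ j : G → ℂ) := by
  choose s χ hs hχ hu' using fun j => (hu j).exists_sign
  refine ⟨fun j => ⟨χ j, hχ j⟩, s, ?_, hs, hu'⟩
  intro i j hij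
  by_contra hne
  have h1 := horth i j hne
  have h2 : χ i = χ j := congrArg Subtype.val hij
  rw [hu' i, hu' j, ← h2, classInner_smul_left, classInner_smul_right, classInner_irr_self (hχ i)] at h1
  rcases hs i with h3 | h3 <;> rcases hs j with h4 | h4 <;> rw [h3, h4] at h1 <;> simp at h1

/-- Column orthogonality, as a statement on norms. -/
theorem sum_normSq_irr [Fintype (IrrCharacter G)] (g : G) :
    ∑ ξ : IrrCharacter G, Complex.normSq ((ξ : G → ℂ) g) =
      (Nat.card (Subgroup.centralizer ({g} : Set G)) : ℝ) := by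
  have h1 := Cfsg.Agent.Lib.Char.CompleteCor.column_orth_conj (IsConj.refl g)
  have h2 : ∀ ξ : IrrCharacter G, (ξ : G → ℂ) g * conj ((ξ : G → ℂ) g) =
      ((Complex.normSq ((ξ : G → ℂ) g) : ℝ) : ℂ) := fun ξ => Complex.mul_conj _
  simp only [h2] at h1
  exact_mod_cast h1

theorem normSq_smul_sign {s z : ℂ} (hs : s = 1 ∨ s = -1) : Complex.normSq (s * z) = Complex.normSq z := by
  rcases hs with rfl | rfl <;> simp

/-- Bessel for columns. -/
theorem sum_normSq_le {J : Type*} [Fintype J] (u : J → G → ℂ) (hu : ∀ j, IsSignedIrr G (u j))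
    (horth : ∀ i j, i ≠ j → classInner (u i) (u j) = 0) (g : G) :
    ∑ j, Complex.normSq (u j g) ≤ (Nat.card (Subgroup.centralizer ({g} : Set G)) : ℝ) := by
  classical
  haveI : Fintype (IrrCharacter G) := Fintype.ofFinite _
  obtain ⟨ξ, s, hinj, hs, hξ⟩ := exists_irr_family u hu horth
  rw [← sum_normSq_irr g]
  have h1 : ∑ j, Complex.normSq (u j g) = ∑ j, Complex.normSq ((ξ j : G → ℂ) g) := by
    refine Finset.sum_congr rfl fun j _ => ?_
    rw [hξ j]
    exact normSq_smul_sign (hs j)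
  rw [h1, ← Finset.sum_image (s := Finset.univ) (g := ξ)
    (f := fun x : IrrCharacter G => Complex.normSq ((x : G → ℂ) g)) (fun a _ b _ h => hinj h)]
  exact Finset.sum_le_sum_of_subset_of_nonneg (Finset.subset_univ _) (fun _ _ _ => Complex.normSq_nonneg _)

/-- If the column norm is exhausted, the sum over irreducible characters reduces to the family. -/
theorem sum_triple_eq {J : Type*} [Fintype J] (u : J → G → ℂ) (hu : ∀ j, IsSignedIrr G (u j))
    (horth : ∀ i j, i ≠ j → classInner (u i) (u j) = 0) [Fintype (IrrCharacter G)] {t : G}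
    (ht : ∑ j, Complex.normSq (u j t) = (Nat.card (Subgroup.centralizer ({t} : Set G)) : ℝ)) (e e' : G) :
    ∑ ξ : IrrCharacter G, (ξ : G → ℂ) e * (ξ : G → ℂ) e' * (ξ : G → ℂ) t / (ξ : G → ℂ) 1 =
      ∑ j, u j e * u j e' * u j t / u j 1 := by
  classical
  obtain ⟨ξ, s, hinj, hs, hξ⟩ := exists_irr_family u hu horth
  have h1 : ∑ j, Complex.normSq (u j t) = ∑ j, Complex.normSq ((ξ j : G → ℂ) t) := by
    refine Finset.sum_congr rfl fun j _ => ?_
    rw [hξ j]
    exact normSq_smul_sign (hs j)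
  set I : Finset (IrrCharacter G) := Finset.univ.image ξ with hI
  have h2 : ∑ x ∈ I, Complex.normSq ((x : G → ℂ) t) = ∑ j, Complex.normSq ((ξ j : G → ℂ) t) := by
    rw [hI, Finset.sum_image (fun a _ b _ h => hinj h)]
  have h3 := sum_normSq_irr (G := G) t
  rw [← ht, h1, ← h2, ← Finset.sum_sdiff (Finset.subset_univ I)] at h3
  have h4 : ∑ x ∈ Finset.univ \ I, Complex.normSq ((x : G → ℂ) t) = 0 := by linarith
  have h5 := (Finset.sum_eq_zero_iff_of_nonneg (fun _ _ => Complex.normSq_nonneg _)).mp h4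
  have h6 : ∀ x ∈ Finset.univ \ I, (x : G → ℂ) t = 0 := fun x hx => Complex.normSq_eq_zero.mp (h5 x hx)
  rw [← Finset.sum_sdiff (Finset.subset_univ I)]
  have h7 : ∑ x ∈ Finset.univ \ I, (x : G → ℂ) e * (x : G → ℂ) e' * (x : G → ℂ) t / (x : G → ℂ) 1 = 0 := by
    refine Finset.sum_eq_zero fun x hx => ?_
    rw [h6 x hx]
    simp
  rw [h7, zero_add, hI, Finset.sum_image (fun a _ b _ h => hinj h)]
  refine Finset.sum_congr rfl fun j _ => ?_
  rw [hξ j]
  have h8 : (ξ j : G → ℂ) 1 ≠ 0 := irr_one_ne_zero (ξ j).2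
  simp only [Pi.smul_apply, smul_eq_mul]
  rcases hs j with h9 | h9 <;> rw [h9] <;> field_simp <;> ring

/-- The number of conjugates `s` of `e` with `s t` conjugate to `e'`. -/
noncomputable def Cnt (e e' t : G) : ℕ := Nat.card {s : G // IsConj e s ∧ IsConj (s * t) e'}

omit [Fintype G] in
theorem card_cen_of_isConj {g h : G} (hc : IsConj g h) :
    Nat.card (Subgroup.centralizer ({g} : Set G)) = Nat.card (Subgroup.centralizer ({h} : Set G)) := by
  obtain ⟨k, rfl⟩ := isConj_iff.1 hc
  apply Nat.card_congr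
  refine ⟨fun c => ⟨k * c * k⁻¹, ?_⟩, fun c => ⟨k⁻¹ * c * k, ?_⟩, ?_, ?_⟩
  · rw [Subgroup.mem_centralizer_singleton_iff]
    have h1 : (c : G) * g = g * c := Subgroup.mem_centralizer_singleton_iff.mp c.2
    calc k * c * k⁻¹ * (k * g * k⁻¹) = k * (c * g) * k⁻¹ := by group
      _ = k * (g * c) * k⁻¹ := by rw [h1]
      _ = _ := by group
  · rw [Subgroup.mem_centralizer_singleton_iff]
    have h1 : (c : G) * (k * g * k⁻¹) = (k * g * k⁻¹) * c := Subgroup.mem_centralizer_singleton_iff.mp c.2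
    calc k⁻¹ * c * k * g = k⁻¹ * (c * (k * g * k⁻¹)) * k := by group
      _ = k⁻¹ * ((k * g * k⁻¹) * c) * k := by rw [h1]
      _ = _ := by group
  · intro c
    apply Subtype.ext
    show k⁻¹ * (k * c * k⁻¹) * k = c
    group
  · intro c
    apply Subtype.ext
    show k * (k⁻¹ * c * k) * k⁻¹ = c
    group

/-- The class sum formula for the count. -/
theorem cnt_formula [Fintype (IrrCharacter G)] (e e' t : G) (he' : e' * e' = 1) :
    (Cnt e e' t : ℂ) * (Nat.card (Subgroup.centralizer ({e'} : Set G)) : ℂ) =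
      ((Subgroup.centralizer ({e} : Set G)).index : ℂ) *
        ∑ ξ : IrrCharacter G, (ξ : G → ℂ) e * (ξ : G → ℂ) e' * (ξ : G → ℂ) t / (ξ : G → ℂ) 1 := by
  classical
  have hinv : e'⁻¹ = e' := inv_eq_of_mul_eq_one_right he'
  have hconj : ∀ ξ : IrrCharacter G, conj ((ξ : G → ℂ) e') = (ξ : G → ℂ) e' := by
    intro ξ
    rw [← Cfsg.Agent.Lib.Char.Complete.isIrr_inv ξ.2, hinv]
  have hcol : ∀ g : G, ∑ ξ : IrrCharacter G, (ξ : G → ℂ) g * (ξ : G → ℂ) e' =
      if IsConj g e' then (Nat.card (Subgroup.centralizer ({e'} : Set G)) : ℂ) else 0 := by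
    intro g
    split_ifs with hg
    · have h1 := Cfsg.Agent.Lib.Char.CompleteCor.column_orth_conj hg
      rw [card_cen_of_isConj hg] at h1
      rw [← h1]
      refine Finset.sum_congr rfl fun ξ _ => ?_
      rw [hconj]
    · have h1 := Cfsg.Agent.Lib.Char.CompleteCor.column_orth_not_conj hg
      rw [← h1]
      refine Finset.sum_congr rfl fun ξ _ => ?_
      rw [hconj]
  have hcnt : (Cnt e e' t : ℂ) = ∑ s : G, if IsConj e s ∧ IsConj (s * t) e' then (1 : ℂ) else 0 := by
    rw [Finset.sum_boole, Cnt, Nat.card_eq_fintype_card, Fintype.card_subtype]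
  rw [hcnt, Finset.sum_mul]
  have h2 : ∀ s : G, (if IsConj e s ∧ IsConj (s * t) e' then (1 : ℂ) else 0) *
      (Nat.card (Subgroup.centralizer ({e'} : Set G)) : ℂ) =
      ∑ ξ : IrrCharacter G, (if IsConj e s then (ξ : G → ℂ) (s * t) else 0) * (ξ : G → ℂ) e' := by
    intro s
    by_cases h3 : IsConj e s
    · simp only [h3, if_true, true_and]
      rw [hcol (s * t)]
      split_ifs <;> simp
    · rw [if_neg (fun h4 => h3 h4.1), zero_mul]
      symm
      apply Finset.sum_eq_zero
      intro ξ _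
      rw [if_neg h3, zero_mul]
  simp only [h2]
  rw [Finset.sum_comm, Finset.mul_sum]
  refine Finset.sum_congr rfl fun ξ _ => ?_
  rw [← Finset.sum_mul, Cfsg.Agent.Lib.Blocks.WeakOrth.sum_isConj_mul ξ.2 e t]
  simp only [centralChar]
  ring

end Cfsg.Agent.Lib.Recog13
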